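import Groth.Agent.H24.UnitNorm
import Groth.Agent.Lib.NFApprox.Main

/-!
# Relative norms with prescribed local coordinates, units or of degree one elsewhere
-/

open NumberField IsDedekindDomain Polynomial Topology
open scoped NumberField TensorProduct Valued

namespace Groth.Agent.H24.SplitValues

universe u

open Groth.Agent.Lib.NFApprox

section Basis

variable {k K L C : Type u} [Field k] [Field K] [Field L] [Algebra k K] [Algebra K L] [Algebra k L]
  [IsScalarTower k K L] [FiniteDimensional k K] [FiniteDimensional K L] [Field C] [Algebra k C]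

variable (C) in
/-- `1 ⊗ ω` is a basis of `C ⊗ L` over `C ⊗ K`. -/
lemma exists_tensor_basis {m : ℕ} (ω : Module.Basis (Fin m) K L) :
    letI := (Algebra.TensorProduct.map (AlgHom.id k C) (IsScalarTower.toAlgHom k K L)).toRingHom.toAlgebra
    ∃ bB : Module.Basis (Fin m) (C ⊗[k] K) (C ⊗[k] L), (∀ i, bB i = (1 : C) ⊗ₜ[k] ω i) ∧
      ∀ i, Algebra.leftMulMatrix bB (bB i) = (Algebra.leftMulMatrix ω (ω i)).map
        (Algebra.TensorProduct.includeRight : K →ₐ[k] C ⊗[k] K) := by
  let B := C ⊗[k] K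
  let T := C ⊗[k] L
  let : Algebra B T := (Algebra.TensorProduct.map (AlgHom.id k C)
        (IsScalarTower.toAlgHom k K L)).toRingHom.toAlgebra
  have hBT : ∀ (a : C) (r : K), algebraMap B T (a ⊗ₜ[k] r) = a ⊗ₜ[k] algebraMap K L r := fun _ _ => rfl
  have : IsScalarTower C B T := IsScalarTower.of_algebraMap_eq fun a => by
    rw [Algebra.TensorProduct.algebraMap_apply, Algebra.TensorProduct.algebraMap_apply, hBT, map_one]
  let w : Fin m → T := fun i => (1 : C) ⊗ₜ[k] ω i
  let Φ := Fintype.linearCombination B w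
  have hsurj : Function.Surjective Φ := by
    intro t
    induction t using TensorProduct.induction_on with
    | zero => exact ⟨0, map_zero _⟩
    | add x y hx hy =>
      obtain ⟨a, rfl⟩ := hx
      obtain ⟨b, rfl⟩ := hy
      exact ⟨a + b, map_add _ _ _⟩
    | tmul a l =>
      refine ⟨fun i => a ⊗ₜ[k] ω.repr l i, ?_⟩
      rw [Fintype.linearCombination_apply]
      conv_rhs => rw [← ω.sum_repr l, TensorProduct.tmul_sum]
      refine Finset.sum_congr rfl fun i _ => ?_
      rw [Algebra.smul_def, hBT, Algebra.TensorProduct.tmul_mul_tmul, mul_one, Algebra.smul_def]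
  have : FiniteDimensional k L := Module.Finite.trans K L
  have hfr : Module.finrank C (Fin m → B) = Module.finrank C T := by
    rw [Module.finrank_pi_fintype, Finset.sum_const, Finset.card_univ, Fintype.card_fin, smul_eq_mul,
      Module.finrank_baseChange, Module.finrank_baseChange, ← Module.finrank_mul_finrank k K L, mul_comm,
      Module.finrank_eq_card_basis ω, Fintype.card_fin]
  have hinj : Function.Injective (Φ.restrictScalars C) :=
    (LinearMap.injective_iff_surjective_of_finrank_eq_finrank hfr).2 hsurj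
  let bB : Module.Basis (Fin m) B T :=
    Module.Basis.ofEquivFun (LinearEquiv.ofBijective Φ ⟨hinj, hsurj⟩).symm
  have hbB : ∀ i, bB i = w i := fun i => by
    simp [bB]
    exact (Fintype.linearCombination_apply_single (v := w) (R := B) i 1).trans (one_smul _ _)
  refine ⟨bB, hbB, fun i => ?_⟩
  ext p q
  rw [Matrix.map_apply, Algebra.leftMulMatrix_eq_repr_mul, Algebra.leftMulMatrix_eq_repr_mul]
  have : bB i * bB q = ∑ l, ((1 : C) ⊗ₜ[k] ω.repr (ω i * ω q) l : B) • bB l := by
    have h1 : w i * w q = (1 : C) ⊗ₜ[k] (ω i * ω q) := by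
      show ((1 : C) ⊗ₜ[k] ω i) * ((1 : C) ⊗ₜ[k] ω q) = _
      exact (Algebra.TensorProduct.tmul_mul_tmul _ _ _ _).trans (by rw [one_mul])
    rw [hbB, hbB, h1]
    conv_lhs => rw [← ω.sum_repr (ω i * ω q), TensorProduct.tmul_sum]
    refine Finset.sum_congr rfl fun l _ => ?_
    rw [hbB, Algebra.smul_def (A := T), hBT]
    exact ((Algebra.TensorProduct.tmul_mul_tmul _ _ _ _).trans (by rw [one_mul, Algebra.smul_def])).symm
  rw [this, bB.repr_sum_self]
  rfl

variable (C) in
/-- The relative norm, in coordinates over `k`. -/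
noncomputable def relNorm {m N : ℕ} (ω' : Module.Basis (Fin m) K L) (ω : Module.Basis (Fin N) k L)
    (c : Fin N → C) : C ⊗[k] K :=
  Matrix.det (∑ j, (∑ i, c i • ((1 : C) ⊗ₜ[k] ω'.repr (ω i) j)) •
    (Algebra.leftMulMatrix ω' (ω' j)).map (Algebra.TensorProduct.includeRight : K →ₐ[k] C ⊗[k] K))

lemma norm_eq_relNorm {m N : ℕ} (ω' : Module.Basis (Fin m) K L) (ω : Module.Basis (Fin N) k L)
    (X : C ⊗[k] L) :
    letI := (Algebra.TensorProduct.map (AlgHom.id k C) (IsScalarTower.toAlgHom k K L)).toRingHom.toAlgebra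
    Algebra.norm (C ⊗[k] K) X =
      relNorm C ω' ω (fun i => (Algebra.TensorProduct.basis C ω).repr X i) := by
  let : Algebra (C ⊗[k] K) (C ⊗[k] L) := (Algebra.TensorProduct.map (AlgHom.id k C)
        (IsScalarTower.toAlgHom k K L)).toRingHom.toAlgebra
  obtain ⟨bB, hbB, hmat⟩ := exists_tensor_basis C (k := k) ω'
  set c := fun i => (Algebra.TensorProduct.basis C ω).repr X i
  have hX : X = ∑ j, (∑ i, c i • ((1 : C) ⊗ₜ[k] ω'.repr (ω i) j) : C ⊗[k] K) • bB j := by
    conv_lhs => rw [← (Algebra.TensorProduct.basis C ω).sum_repr X]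
    simp only [Finset.sum_smul]
    rw [Finset.sum_comm]
    refine Finset.sum_congr rfl fun i _ => ?_
    rw [Algebra.TensorProduct.basis_apply]
    conv_lhs => rw [← ω'.sum_repr (ω i), TensorProduct.tmul_sum, Finset.smul_sum]
    refine Finset.sum_congr rfl fun j _ => ?_
    rw [TensorProduct.smul_tmul', TensorProduct.smul_tmul', smul_eq_mul, mul_one, Algebra.smul_def (A := C ⊗[k] L), hbB,
      show algebraMap (C ⊗[k] K) (C ⊗[k] L) (c i ⊗ₜ[k] ω'.repr (ω i) j) = c i ⊗ₜ[k] algebraMap K L (ω'.repr (ω i) j) from rfl]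
    exact ((Algebra.TensorProduct.tmul_mul_tmul _ _ _ _).trans (by rw [mul_one, Algebra.smul_def])).symm
  conv_lhs => rw [hX]
  rw [Algebra.norm_eq_matrix_det bB, map_sum, relNorm]
  simp only [map_smul, hmat]

lemma relNorm_algebraMap {m N : ℕ} (ω' : Module.Basis (Fin m) K L) (ω : Module.Basis (Fin N) k L) (x : L) :
    relNorm C ω' ω (fun i => algebraMap k C (ω.repr x i)) = (1 : C) ⊗ₜ[k] Algebra.norm K x := by
  let g : K →ₐ[k] C ⊗[k] K := Algebra.TensorProduct.includeRight
  have hc : ∀ j, (∑ i, algebraMap k C (ω.repr x i) • ((1 : C) ⊗ₜ[k] ω'.repr (ω i) j)) = g (ω'.repr x j) := by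
    intro j
    conv_rhs => rw [← ω.sum_repr x, map_sum, Finsupp.finsetSum_apply, map_sum]
    refine Finset.sum_congr rfl fun i _ => ?_
    rw [← algebraMap_smul K (ω.repr x i) (ω i), map_smul, Finsupp.smul_apply, smul_eq_mul, map_mul,
      AlgHom.commutes, Algebra.smul_def, ← IsScalarTower.algebraMap_apply k C (C ⊗[k] K)]
    rfl
  unfold relNorm
  simp only [hc]
  conv_rhs => rw [← ω'.sum_repr x, Algebra.norm_eq_matrix_det ω', map_sum]
  show _ = g _
  rw [AlgHom.map_det, map_sum]
  congr 1
  refine Finset.sum_congr rfl fun j _ => ?_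
  ext p q
  simp [g]

lemma continuous_relNorm [TopologicalSpace C] [IsTopologicalRing C] {m N : ℕ} (ω' : Module.Basis (Fin m) K L)
    (ω : Module.Basis (Fin N) k L) (f : C ⊗[k] K →ₗ[C] C) (z : C ⊗[k] K) :
    Continuous fun c : Fin N → C => f (z * relNorm C ω' ω c) := by
  let : TopologicalSpace (C ⊗[k] K) := moduleTopology C (C ⊗[k] K)
  have : IsModuleTopology C (C ⊗[k] K) := ⟨rfl⟩
  have : IsTopologicalRing (C ⊗[k] K) := IsModuleTopology.isTopologicalRing C (C ⊗[k] K)
  have hf : Continuous f := IsModuleTopology.continuous_of_linearMap f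
  refine hf.comp (continuous_const.mul ?_)
  unfold relNorm
  fun_prop

end Basis

variable {k K L : Type u} [Field k] [NumberField k] [Field K] [NumberField K] [Field L] [NumberField L]
  [Algebra k K] [Algebra K L] [Algebra k L] [IsScalarTower k K L]

local notation "Pl" => HeightOneSpectrum (𝓞 k)

lemma isIntegral_valuationSubring (v : Pl) {A : Type*} [CommRing A] [Algebra k A] {z : A}
    (hz : letI := ((algebraMap k A).comp (algebraMap (𝓞 k) k)).toAlgebra; IsIntegral (𝓞 k) z) :
    IsIntegral (v.valuation k).valuationSubring z := by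
  let : Algebra (𝓞 k) A := ((algebraMap k A).comp (algebraMap (𝓞 k) k)).toAlgebra
  let f : 𝓞 k →+* (v.valuation k).valuationSubring :=
    (algebraMap (𝓞 k) k).codRestrict (v.valuation k).valuationSubring fun r => v.valuation_le_one r
  obtain ⟨p, hp, hp'⟩ := hz
  refine ⟨p.map f, hp.map f, ?_⟩
  rw [eval₂_map]
  exact hp'

lemma valuation_le_one_of_isIntegral {K : Type u} [Field K] [NumberField K] [Algebra k K] (v : Pl)
    (W : HeightOneSpectrum (𝓞 K)) (hW : ∀ x : k, v.valuation k x ≤ 1 → W.valuation K (algebraMap k K x) ≤ 1)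
    (x : K) (hx : IsIntegral (v.valuation k).valuationSubring x) : W.valuation K x ≤ 1 := by
  let f : (v.valuation k).valuationSubring →+* (W.valuation K).valuationSubring :=
    ((algebraMap k K).comp (v.valuation k).valuationSubring.subtype).codRestrict _ fun r => hW r r.2
  have : IsIntegral (W.valuation K).valuationSubring x := by
    obtain ⟨p, hp, hp'⟩ := hx
    refine ⟨p.map f, hp.map f, ?_⟩
    rw [eval₂_map]
    exact hp'
  obtain ⟨y, rfl⟩ := IsIntegrallyClosed.isIntegral_iff.1 this
  exact y.2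

lemma valuation_map_le_one (v : Pl) (W : HeightOneSpectrum (𝓞 K)) (hW : W.asIdeal.LiesOver v.asIdeal)
    (x : k) (hx : v.valuation k x ≤ 1) : W.valuation K (algebraMap k K x) ≤ 1 := by
  obtain ⟨n, ⟨d, hd⟩, hnd⟩ := HeightOneSpectrum.exists_primeCompl_mul_eq_of_integer v x hx
  have h := congrArg (algebraMap k K) hnd
  rw [map_mul, ← IsScalarTower.algebraMap_apply (𝓞 k) k K, ← IsScalarTower.algebraMap_apply (𝓞 k) k K,
    IsScalarTower.algebraMap_apply (𝓞 k) (𝓞 K) K, IsScalarTower.algebraMap_apply (𝓞 k) (𝓞 K) K] at h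
  have h' := congrArg (W.valuation K) h
  rw [map_mul, W.valuation_eq_one_iff_notMem.2 (fun hm => hd ((Ideal.mem_of_liesOver W.asIdeal v.asIdeal _).2 hm)),
    mul_one] at h'
  exact h' ▸ W.valuation_le_one _

lemma valuation_map_lt_one (v : Pl) (W : HeightOneSpectrum (𝓞 K)) (hW : W.asIdeal.LiesOver v.asIdeal)
    (x : k) (hx : v.valuation k x < 1) : W.valuation K (algebraMap k K x) < 1 := by
  obtain ⟨n, ⟨d, hd⟩, hnd⟩ := HeightOneSpectrum.exists_primeCompl_mul_eq_of_integer v x hx.le
  have hn : v.valuation k (algebraMap (𝓞 k) k n) < 1 := by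
    rw [← hnd, map_mul, v.valuation_eq_one_iff_notMem.2 hd, mul_one]; exact hx
  have h := congrArg (algebraMap k K) hnd
  rw [map_mul, ← IsScalarTower.algebraMap_apply (𝓞 k) k K, ← IsScalarTower.algebraMap_apply (𝓞 k) k K,
    IsScalarTower.algebraMap_apply (𝓞 k) (𝓞 K) K, IsScalarTower.algebraMap_apply (𝓞 k) (𝓞 K) K] at h
  have h' := congrArg (W.valuation K) h
  rw [map_mul, W.valuation_eq_one_iff_notMem.2 (fun hm => hd ((Ideal.mem_of_liesOver W.asIdeal v.asIdeal _).2 hm)),
    mul_one] at h'
  rw [h', W.valuation_lt_one_iff_mem]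
  exact (Ideal.mem_of_liesOver W.asIdeal v.asIdeal _).1 ((v.valuation_lt_one_iff_mem n).1 hn)

theorem exists_norm_near {N : ℕ} (ω : Module.Basis (Fin N) k L) (hω : ∀ i, IsIntegral (𝓞 k) (ω i))
    (v₀ : Pl) (S : Finset Pl) (hv₀ : v₀ ∉ S)
    (hbig : ∀ v, v ≠ v₀ → v ∉ S → Module.finrank k L < Ideal.absNorm v.asIdeal)
    (O : ∀ v : Pl, Set (Fin N → v.adicCompletion k)) (hO : ∀ v ∈ S, IsOpen (O v) ∧ (O v).Nonempty)
    (Oi : ∀ w : InfinitePlace k, Set (Fin N → w.Completion)) (hOi : ∀ w, IsOpen (Oi w) ∧ (Oi w).Nonempty) :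
    ∃ x : L, (∀ v ∈ S, (fun i => algebraMap k (v.adicCompletion k) (ω.repr x i)) ∈ O v) ∧
      (∀ w, (fun i => algebraMap k w.Completion (ω.repr x i)) ∈ Oi w) ∧
      ∀ v, v ≠ v₀ → v ∉ S → IsIntegral (v.valuation k).valuationSubring (Algebra.norm K x) ∧
        ∀ W : HeightOneSpectrum (𝓞 K), W.asIdeal.LiesOver v.asIdeal →
          W.valuation K (Algebra.norm K x) < 1 → Nonempty (L →ₐ[K] W.adicCompletion K) := by
  classical
  have : FiniteDimensional k L := Module.Finite.of_restrictScalars_finite ℚ k L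
  have : FiniteDimensional K L := Module.Finite.of_restrictScalars_finite k K L
  have hbox : ∀ v : Pl, ∃ U : Fin N → Set (v.adicCompletion k), v ∈ S →
      (∀ i, IsOpen (U i) ∧ (U i).Nonempty) ∧ ∀ c, (∀ i, c i ∈ U i) → c ∈ O v := by
    intro v
    by_cases hv : v ∈ S
    · obtain ⟨c, hc⟩ := (hO v hv).2
      obtain ⟨U, hU, hsub⟩ := isOpen_pi_iff'.1 (hO v hv).1 c hc
      exact ⟨U, fun _ => ⟨fun i => ⟨(hU i).1, _, (hU i).2⟩, fun d hd => hsub fun i _ => hd i⟩⟩
    · exact ⟨fun _ => Set.univ, fun h => absurd h hv⟩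
  choose U hU using hbox
  have hboxi : ∀ w : InfinitePlace k, ∃ U : Fin N → Set w.Completion,
      (∀ i, IsOpen (U i) ∧ (U i).Nonempty) ∧ ∀ c, (∀ i, c i ∈ U i) → c ∈ Oi w := by
    intro w
    obtain ⟨c, hc⟩ := (hOi w).2
    obtain ⟨U, hU, hsub⟩ := isOpen_pi_iff'.1 (hOi w).1 c hc
    exact ⟨U, fun i => ⟨(hU i).1, _, (hU i).2⟩, fun d hd => hsub fun i _ => hd i⟩
  choose Ui hUi using hboxi
  choose c hc₁ hc₂ hc₃ using fun i => H23.StrongApprox.exists_strongApprox v₀ S hv₀
    (fun v => U v i) (fun v hv => (hU v hv).1 i) (fun w => Ui w i) (fun w => (hUi w).1 i)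
  let x₀ := ∑ i, c i • ω i
  obtain ⟨θ, hθ0, hθ, hθtop⟩ := exists_integral_primitive (k := k) L
  -- the open sets for a shift
  let cv : (C : Type u) → [CommRing C] → [Algebra k C] → L → L → C → (Fin N → C) :=
    fun C _ _ x z a i => algebraMap k C (ω.repr x i) + a * algebraMap k C (ω.repr z i)
  have hcv : ∀ (C : Type u) [CommRing C] [Algebra k C] (x z : L) (a : k),
      cv C x z (algebraMap k C a) = fun i => algebraMap k C (ω.repr (x + a • z) i) := fun C _ _ x z a => by
    funext i; simp [cv]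
  have hcv0 : ∀ (C : Type u) [CommRing C] [Algebra k C] (x z : L),
      cv C x z 0 = fun i => algebraMap k C (ω.repr x i) := fun C _ _ x z => by
    funext i; simp [cv]
  have hcvc : ∀ (C : Type u) [CommRing C] [Algebra k C] [TopologicalSpace C] [IsTopologicalRing C]
      (x z : L), Continuous (cv C x z) := fun C _ _ _ _ x z => by
    simp only [cv]; fun_prop
  have hx₀ : ∀ v ∈ S, (fun i => algebraMap k (v.adicCompletion k) (ω.repr x₀ i)) ∈ O v := fun v hv => by
    refine (hU v hv).2 _ fun i => ?_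
    simp only [x₀, ω.repr_sum_self]
    exact hc₂ i v hv
  have hx₀i : ∀ w, (fun i => algebraMap k w.Completion (ω.repr x₀ i)) ∈ Oi w := fun w => by
    refine (hUi w).2 _ fun i => ?_
    simp only [x₀, ω.repr_sum_self]
    exact hc₃ i w
  have : Finite (IntermediateField k L) :=
    Field.finite_intermediateField_of_exists_primitive_element k L ⟨θ, hθtop⟩
  let : Fintype (IntermediateField k L) := Fintype.ofFinite _
  let bad : IntermediateField k L → k := fun E =>
    if h : ∃ a : k, x₀ + a • θ ∈ E then h.choose else 0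
  obtain ⟨a, haF, ha₁, ha₂, ha₃⟩ := exists_approx_avoid v₀ S hv₀
    (fun v => cv _ x₀ θ ⁻¹' O v)
    (fun v hv => ⟨(hO v hv).1.preimage (hcvc _ x₀ θ), 0, by rw [Set.mem_preimage, hcv0]; exact hx₀ v hv⟩)
    (fun w => cv _ x₀ θ ⁻¹' Oi w)
    (fun w => ⟨(hOi w).1.preimage (hcvc _ x₀ θ), 0, by rw [Set.mem_preimage, hcv0]; exact hx₀i w⟩)
    (Finset.univ.image bad)
  set x := x₀ + a • θ with hx
  have htop : IntermediateField.adjoin k {x} = ⊤ := by
    set E := IntermediateField.adjoin k {x}
    have hmem : x₀ + a • θ ∈ E := IntermediateField.mem_adjoin_simple_self k _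
    have h : ∃ b : k, x₀ + b • θ ∈ E := ⟨a, hmem⟩
    have hne : a - h.choose ≠ 0 := sub_ne_zero.2 fun e =>
      haF (Finset.mem_image.2 ⟨E, Finset.mem_univ _, by simp only [bad, dif_pos h]; exact e.symm⟩)
    have hd : (a - h.choose) • θ ∈ E := by
      have := E.sub_mem hmem h.choose_spec
      rwa [add_sub_add_left_eq_sub, ← sub_smul] at this
    have : θ ∈ E := by
      have := E.smul_mem hd (x := (a - h.choose)⁻¹)
      rwa [inv_smul_smul₀ hne] at this
    exact top_le_iff.1 (hθtop ▸ IntermediateField.adjoin_simple_le_iff.2 this)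
  have hytop : IntermediateField.adjoin k {-x} = ⊤ := by
    refine top_le_iff.1 (htop ▸ IntermediateField.adjoin_simple_le_iff.2 ?_)
    simpa using neg_mem (IntermediateField.mem_adjoin_simple_self k (-x))
  have hytopK : IntermediateField.adjoin K {-x} = ⊤ :=
    IntermediateField.restrictScalars_injective k ((top_le_iff.1 (by
      rw [← hytop]
      exact IntermediateField.adjoin_simple_le_iff.2 (IntermediateField.mem_adjoin_simple_self K (-x)))).trans
        IntermediateField.restrictScalars_top.symm)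
  have hxS : ∀ v ∈ S, (fun i => algebraMap k (v.adicCompletion k) (ω.repr x i)) ∈ O v := fun v hv => by
    have := ha₂ v hv
    rwa [Set.mem_preimage, hcv] at this
  have hxSi : ∀ w, (fun i => algebraMap k w.Completion (ω.repr x i)) ∈ Oi w := fun w => by
    have := ha₃ w
    rwa [Set.mem_preimage, hcv] at this
  -- integrality
  have hint : ∀ v, v ≠ v₀ → v ∉ S → IsIntegral (v.valuation k).valuationSubring x := fun v hv hvS => by
    have hmem : ∀ (q : k) (z : L), v.valuation k q ≤ 1 → IsIntegral (𝓞 k) z →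
        IsIntegral (v.valuation k).valuationSubring (q • z) := fun q z hq hz => by
      rw [Algebra.smul_def]
      refine (show IsIntegral (v.valuation k).valuationSubring (algebraMap k L q) from
        isIntegral_algebraMap (R := (v.valuation k).valuationSubring) (x := ⟨q, hq⟩)).mul (isIntegral_valuationSubring (A := L) v ?_)
      obtain ⟨p, hp, hp'⟩ := hz
      exact ⟨p, hp, by rwa [RingHom.algebraMap_toAlgebra, ← IsScalarTower.algebraMap_eq]⟩
    exact (IsIntegral.sum _ fun j _ => hmem _ _ (hc₁ j v hv hvS) (hω j)).add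
      (hmem _ _ (ha₁ v hv hvS) hθ)
  set Q := minpoly k (-x) with hQdef
  set P := minpoly K (-x) with hPdef
  have hm : Q.Monic := minpoly.monic (IsIntegral.of_finite k _)
  have hdeg : Q.natDegree = Module.finrank k L :=
    (Field.primitive_element_iff_minpoly_natDegree_eq k (-x)).1 hytop
  have hQint : ∀ v, v ≠ v₀ → v ∉ S → ∀ i, v.valuation k (Q.coeff i) ≤ 1 := fun v hv hvS i => by
    rw [hQdef, minpoly.isIntegrallyClosed_eq_field_fractions' k (hint v hv hvS).neg, coeff_map]
    exact ((minpoly (v.valuation k).valuationSubring (-x)).coeff i).2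
  obtain ⟨B, hB⟩ := exists_finset_simple Q (Algebra.IsSeparable.isSeparable k (-x))
  let B' : Finset Pl := B \ (insert v₀ S)
  have hV : ∀ v : Pl, ∃ V : Set (v.adicCompletion k), v ∈ S ∪ B' → (IsOpen V ∧ V.Nonempty) ∧
      (v ∈ S → ∀ a : k, algebraMap k _ a ∈ V →
        (fun i => algebraMap k (v.adicCompletion k) (ω.repr (x + a • (1 : L)) i)) ∈ O v) ∧
      (v ∈ B' → ∀ a : k, algebraMap k _ a ∈ V → v.valuation k a ≤ 1 ∧ v.valuation k (Q.eval a) = 1) := by
    intro v
    by_cases hvS : v ∈ S
    · refine ⟨cv _ x 1 ⁻¹' O v, fun _ => ⟨⟨(hO v hvS).1.preimage (hcvc _ x 1), 0, ?_⟩,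
        fun _ a ha => ?_, fun h => ?_⟩⟩
      · rw [Set.mem_preimage, hcv0]; exact hxS v hvS
      · rwa [Set.mem_preimage, hcv] at ha
      · exact absurd (Finset.mem_insert_of_mem hvS) (Finset.mem_sdiff.1 h).2
    by_cases hvB : v ∈ B'
    · have hv0 : v ≠ v₀ := fun h => (Finset.mem_sdiff.1 hvB).2 (h ▸ Finset.mem_insert_self _ _)
      obtain ⟨a₀, ha₀⟩ := exists_eval_unit v Q hm (hdeg ▸ hbig v hv0 hvS) (hQint v hv0 hvS)
      let g : v.adicCompletion k → v.adicCompletion k := fun y =>
        (Q.map (algebraMap k (v.adicCompletion k))).eval y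
      have hg : ∀ a : k, g (algebraMap k _ a) = algebraMap k _ (Q.eval a) := fun a =>
        eval_map_apply ..
      refine ⟨Metric.closedBall 0 1 ∩ g ⁻¹' Metric.sphere 0 1, fun _ => ⟨⟨?_, ?_⟩,
        fun h => absurd h hvS, fun _ a ha => ?_⟩⟩
      · exact (IsUltrametricDist.isOpen_closedBall _ one_ne_zero).inter
          ((IsUltrametricDist.isOpen_sphere _ one_ne_zero).preimage (Polynomial.continuous _))
      · refine ⟨algebraMap k _ (algebraMap (𝓞 k) k a₀), ?_, ?_⟩
        · rw [mem_closedBall_zero_iff, norm_algebraMap_le_one_iff]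
          exact v.valuation_le_one a₀
        · rw [Set.mem_preimage, hg, mem_sphere_zero_iff_norm]
          refine le_antisymm ((norm_algebraMap_le_one_iff v _).2 ha₀.le) (not_lt.1 fun h => ?_)
          rw [norm_algebraMap_lt_one_iff, ha₀] at h
          exact lt_irrefl _ h
      · rw [Set.mem_inter_iff, mem_closedBall_zero_iff, norm_algebraMap_le_one_iff, Set.mem_preimage,
          hg, mem_sphere_zero_iff_norm] at ha
        exact ⟨ha.1, le_antisymm ((norm_algebraMap_le_one_iff v _).1 ha.2.le)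
          (not_lt.1 fun h => ((norm_algebraMap_lt_one_iff v _).2 h).ne ha.2)⟩
    exact ⟨Set.univ, fun h => absurd h (by simp [hvS, hvB])⟩
  choose V hV using hV
  have hv₀SB : v₀ ∉ S ∪ B' := by simp [hv₀, B']
  obtain ⟨s, -, hs₁, hs₂, hs₃⟩ := exists_approx_avoid v₀ (S ∪ B') hv₀SB V
    (fun v hv => (hV v hv).1) (fun w => cv _ x 1 ⁻¹' Oi w)
    (fun w => ⟨(hOi w).1.preimage (hcvc _ x 1), 0, by rw [Set.mem_preimage, hcv0]; exact hxSi w⟩) ∅
  have hnorm : Algebra.norm K (x + s • (1 : L)) = P.eval (algebraMap k K s) := by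
    rw [hPdef, ← norm_shift_eq_eval (Module.finBasis K L) (-x) hytopK, sub_neg_eq_add,
      ← Algebra.algebraMap_eq_smul_one, ← IsScalarTower.algebraMap_apply k K L, add_comm]
  refine ⟨x + s • (1 : L), fun v hv => (hV v (Finset.mem_union_left _ hv)).2.1 hv s
    (hs₂ v (Finset.mem_union_left _ hv)), fun w => ?_, fun v hv hvS => ?_⟩
  · have := hs₃ w
    rwa [Set.mem_preimage, hcv] at this
  have hs : v.valuation k s ≤ 1 := by
    by_cases hvB : v ∈ B'
    · exact ((hV v (Finset.mem_union_right _ hvB)).2.2 hvB s (hs₂ v (Finset.mem_union_right _ hvB))).1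
    · exact hs₁ v hv (by simp [hvS, hvB])
  have hxint := hint v hv hvS
  refine ⟨Algebra.isIntegral_norm K (hxint.add ?_), fun W hW hlt => ?_⟩
  · rw [← Algebra.algebraMap_eq_smul_one]
    exact isIntegral_algebraMap (R := (v.valuation k).valuationSubring) (x := ⟨s, hs⟩)
  rw [hnorm] at hlt
  let OW := (W.valuation K).valuationSubring
  have hintW : IsIntegral OW (-x) := by
    let f : (v.valuation k).valuationSubring →+* OW :=
      ((algebraMap k K).comp (v.valuation k).valuationSubring.subtype).codRestrict _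
        fun r => valuation_map_le_one v W hW r r.2
    obtain ⟨p, hp, hp'⟩ := hxint.neg
    refine ⟨p.map f, hp.map f, ?_⟩
    rw [eval₂_map]
    convert hp' using 2
    ext r
    exact (IsScalarTower.algebraMap_apply k K L (r : k)).symm
  have hP : P = (minpoly OW (-x)).map (algebraMap OW K) :=
    minpoly.isIntegrallyClosed_eq_field_fractions' K hintW
  have hPc : ∀ i, W.valuation K (P.coeff i) ≤ 1 := fun i => by
    rw [hP, coeff_map]; exact ((minpoly OW (-x)).coeff i).2
  let QW : OW[X] := (Q.map (algebraMap k K)).toSubring OW.toSubring (by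
    intro r hr
    obtain ⟨i, -, rfl⟩ := Polynomial.mem_coeffs_iff.1 hr
    rw [coeff_map]
    exact valuation_map_le_one v W hW _ (hQint v hv hvS i))
  have hQW : QW.map (algebraMap OW K) = Q.map (algebraMap k K) := Polynomial.map_toSubring _ _ _
  obtain ⟨R, hR⟩ : minpoly OW (-x) ∣ QW := minpoly.isIntegrallyClosed_dvd hintW (by
    rw [← aeval_map_algebraMap K, hQW, aeval_map_algebraMap, minpoly.aeval])
  have hsW := valuation_map_le_one v W hW s hs
  let s' : OW := ⟨algebraMap k K s, hsW⟩
  have hmul : Q.map (algebraMap k K) = P * R.map (algebraMap OW K) := by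
    rw [← hQW, hR, Polynomial.map_mul, hP]
  have hRc : ∀ i, W.valuation K ((R.map (algebraMap OW K)).coeff i) ≤ 1 := fun i => by
    rw [coeff_map]; exact (R.coeff i).2
  have hQlt : v.valuation k (Q.eval s) < 1 := by
    rcases (valuation_eval_le_one v Q (hQint v hv hvS) s hs).lt_or_eq with h | h
    · exact h
    · have h1 := valuation_map_le_one v W hW (Q.eval s)⁻¹ (by rw [map_inv₀, h, inv_one])
      rw [map_inv₀, map_inv₀, ← eval_map_apply, hmul, eval_mul, map_mul] at h1
      have h2 : W.valuation K (P.eval (algebraMap k K s)) * W.valuation K ((R.map (algebraMap OW K)).eval (algebraMap k K s)) < 1 :=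
        lt_of_le_of_lt (mul_le_of_le_one_right' (valuation_eval_le_one W _ hRc _ hsW)) hlt
      by_cases h0 : W.valuation K (P.eval (algebraMap k K s)) * W.valuation K ((R.map (algebraMap OW K)).eval (algebraMap k K s)) = 0
      · exfalso
        rw [← map_mul, ← eval_mul, ← hmul, eval_map_apply, map_eq_zero, map_eq_zero] at h0
        rw [h0, map_zero] at h
        exact zero_ne_one h
      · exact absurd h1 (not_le.2 ((one_lt_inv₀ (zero_lt_iff.2 h0)).2 h2))
  have hvB : v ∉ B := fun hb => by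
    have hb' : v ∈ B' := Finset.mem_sdiff.2 ⟨hb, by simp [hv, hvS]⟩
    exact hQlt.ne ((hV v (Finset.mem_union_right _ hb')).2.2 hb' s (hs₂ v (Finset.mem_union_right _ hb'))).2
  have hd1 : v.valuation k (Q.derivative.eval s) = 1 := hB v hvB (hQint v hv hvS) s hs hQlt
  have hPd : W.valuation K (P.derivative.eval (algebraMap k K s)) = 1 := by
    refine le_antisymm (valuation_eval_le_one W _ (valuation_derivative_coeff_le_one W P hPc) _ hsW)
      (not_lt.1 fun h => ?_)
    have h1 := valuation_map_le_one v W hW (Q.derivative.eval s)⁻¹ (by rw [map_inv₀, hd1, inv_one])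
    have h2 : W.valuation K (algebraMap k K (Q.derivative.eval s)) < 1 := by
      rw [← eval_map_apply, ← derivative_map, hmul, derivative_mul, eval_add, eval_mul, eval_mul]
      refine (W.valuation K).map_add_lt ?_ ?_
      · rw [map_mul]; exact lt_of_le_of_lt (mul_le_of_le_one_right' (valuation_eval_le_one W _ hRc _ hsW)) h
      · rw [map_mul]
        exact lt_of_le_of_lt (mul_le_of_le_one_right'
          (valuation_eval_le_one W _ (valuation_derivative_coeff_le_one W _ hRc) _ hsW)) hlt
    rw [map_inv₀, map_inv₀] at h1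
    have h0 : W.valuation K (algebraMap k K (Q.derivative.eval s)) ≠ 0 := by
      rw [Valuation.ne_zero_iff, ne_eq, map_eq_zero]
      intro h0
      rw [h0, map_zero] at hd1
      exact zero_ne_one hd1
    exact absurd h1 (not_le.2 ((one_lt_inv₀ (zero_lt_iff.2 h0)).2 h2))
  obtain ⟨r, hr⟩ := exists_root_adic W P hPc _ hsW hlt hPd
  exact nonempty_algHom_of_root (-x) (IsIntegral.of_finite K _) hytopK r hr

end Groth.Agent.H24.SplitValues
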